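import Groth.Prelude.Def_EtCech
import Groth.Agent.EtShLib.CechColim

/-! Čech complexes of a finite family and of its disjoint union. -/

set_option autoImplicit false
set_option linter.unusedSectionVars false
set_option linter.style.haveILetI false
set_option backward.isDefEq.respectTransparency false
set_option backward.isDefEq.respectTransparency.types false
set_option maxHeartbeats 1000000

universe u

open CategoryTheory CategoryTheory.Limits AlgebraicGeometry Opposite Groth.Agent.EtShLib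

namespace EtCechDisjLib

variable {X : Scheme.{u}}

/-- Sections of a sheaf on a pairwise disjoint family covering `W`. -/
theorem bijective_sections (F : EtCoh.Ab X) {W : X.Etale} {σ : Type (u + 1)} (O : σ → X.Etale) (j : ∀ x, O x ⟶ W)
    [∀ x, Mono (j x).left] (hcov : ∀ w : W.left, ∃ x, w ∈ Set.range (j x).left.base)
    (hdis : ∀ x y, x ≠ y → Disjoint (Set.range (j x).left.base) (Set.range (j y).left.base)) :
    Function.Injective (fun (s : F.obj.obj (op W)) x => F.obj.map (j x).op s) ∧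
      ∀ t : ∀ x, F.obj.obj (op (O x)), ∃ s : F.obj.obj (op W), ∀ x, F.obj.map (j x).op s = t x := by
  have hmem : Sieve.ofArrows O j ∈ X.smallEtaleTopology W :=
    (Scheme.ofArrows_mem_smallEtaleTopology_iff j).2 (Set.eq_univ_of_forall fun w => Set.mem_iUnion.2 (hcov w))
  have hsh : (Presieve.ofArrows O j).IsSheafFor (F.obj ⋙ forget AddCommGrpCat.{u + 1}) := by
    rw [Presieve.isSheafFor_iff_generate]
    exact ((isSheaf_iff_isSheaf_of_type _ _).1
      (GrothendieckTopology.HasSheafCompose.isSheaf F.obj F.property)) _ hmem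
  have hcomp : ∀ t : ∀ x, F.obj.obj (op (O x)),
      Presieve.Arrows.Compatible (F.obj ⋙ forget AddCommGrpCat.{u + 1}) j t := fun t x y Z a b hab => by
    by_cases hxy : x = y
    · subst hxy
      have : a = b := MorphismProperty.Over.Hom.ext
        ((cancel_mono (j x).left).1 (congrArg (fun k : Z ⟶ W => k.left) hab))
      rw [this]
    · haveI : IsEmpty Z.left := ⟨fun z => Set.disjoint_left.1 (hdis x y hxy)
        (⟨a.left.base z, congrArg (fun k : Z ⟶ W => k.left.base z) hab⟩ :
          (j y).left.base (b.left.base z) ∈ Set.range (j x).left.base) ⟨b.left.base z, rfl⟩⟩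
      exact eq_of_germ (A := AddCommGrpCat.{u + 1}) F (U := Z) _ _ fun Ω _ _ ξ u => isEmptyElim u.pt
  refine ⟨fun s s' h => ?_, fun t => ?_⟩
  · obtain ⟨T, -, hT⟩ := (Presieve.isSheafFor_arrows_iff _ _).1 hsh (fun x => F.obj.map (j x).op s) (hcomp _)
    rw [hT s fun x => rfl, hT s' fun x => (congrFun h x).symm]
  · obtain ⟨T, hT, -⟩ := (Presieve.isSheafFor_arrows_iff _ _).1 hsh t (hcomp t)
    exact ⟨T, hT⟩

variable (F : EtCoh.Ab X) {U : X.Etale} [HasFiniteProducts (Over U)] {ι : Type (u + 1)} [Finite ι]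
  (Uf : ι → Over U) (V : Over U) (incl : ∀ i, Uf i ⟶ V)

theorem mono_over {A B : Over U} (f : A ⟶ B) [Mono f.left.left] : Mono f := by
  haveI : Mono f.left := ⟨fun a b h => MorphismProperty.Over.Hom.ext
    ((cancel_mono f.left.left).1 (congrArg (fun k => k.left) h))⟩
  exact ⟨fun a b h => Over.OverMorphism.ext ((cancel_mono f.left).1 (congrArg (fun k => k.left) h))⟩

theorem nonempty_iso (hV : IsColimit (Cofan.mk V.left.left fun i => (incl i).left.left)) :
    Nonempty (EtCech.cechComplex Uf F.obj ≅ EtCech.cechComplex (fun _ : PUnit.{u + 2} => V) F.obj) := by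
  let g : ι → Scheme.{u} := fun i => (Uf i).left.left
  haveI : Small.{u} ι := inferInstance
  let e : (∐ g) ≅ V.left.left := (coproductIsCoproduct g).coconePointUniqueUpToIso hV
  have he : ∀ i, Sigma.ι g i ≫ e.hom = (incl i).left.left := fun i =>
    (coproductIsCoproduct g).comp_coconePointUniqueUpToIso_hom hV ⟨i⟩
  haveI hoi : ∀ i, IsOpenImmersion (incl i).left.left := fun i => by rw [← he i]; infer_instance
  have hmono : ∀ i, Mono (incl i) := fun i => mono_over (incl i)
  let P := (Over.forget U).op ⋙ F.obj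
  let Φ : FormalCoproduct.mk.{u + 1} ι Uf ⟶ FormalCoproduct.mk PUnit.{u + 2} fun _ => V :=
    { f := fun _ => PUnit.unit, φ := incl }
  let α := FormalCoproduct.cechFunctor.map Φ
  let ev := (FormalCoproduct.evalOp.{u + 1} (Over U) AddCommGrpCat.{u + 1}).obj P
  let τ := Functor.whiskerRight (NatTrans.rightOp α) ev
  suffices hiso : ∀ n, IsIso (τ.app n) by
    haveI := hiso
    haveI : IsIso τ := NatIso.isIso_of_isIso_app τ
    exact ⟨((AlgebraicTopology.alternatingCofaceMapComplex AddCommGrpCat.{u + 1}).mapIso (asIso τ)).symm⟩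
  intro n
  let A := ToType n
  let W : Over U := ∏ᶜ fun _ : A => V
  let Pr : (A → ι) → Over U := fun x => ∏ᶜ fun a => Uf (x a)
  let m : ∀ x : A → ι, Pr x ⟶ W := fun x => Limits.Pi.map fun a => incl (x a)
  -- the pieces
  let O : (A → ι) → W.left.left.Opens := fun x =>
    ⨅ a, (Pi.π (fun _ : A => V) a).left.left ⁻¹ᵁ (incl (x a)).left.left.opensRange
  have hmemO : ∀ x w, w ∈ O x ↔ ∀ a, (Pi.π (fun _ : A => V) a).left.left w ∈ Set.range (incl (x a)).left.left := fun x w => by
    rw [← SetLike.mem_coe, TopologicalSpace.Opens.coe_iInf]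
    simp
    rfl
  haveI : AlgebraicGeometry.Etale W.left.hom := W.left.prop
  let Ox : (A → ι) → X.Etale := fun x => MorphismProperty.Over.mk ⊤ ((O x).ι ≫ W.left.hom)
    (inferInstance : AlgebraicGeometry.Etale ((O x).ι ≫ W.left.hom))
  let jx : ∀ x, Ox x ⟶ W.left := fun x => MorphismProperty.Over.homMk (O x).ι rfl
  haveI : ∀ x, Mono (jx x).left := fun x => inferInstanceAs (Mono (O x).ι)
  have hbij := bijective_sections F Ox jx (fun w => ?cover) (fun x y hxy => ?disj)
  case cover =>
    have hc : ∀ a, ∃ i, (Pi.π (fun _ : A => V) a).left.left w ∈ Set.range (incl i).left.left := fun a => by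
      obtain ⟨i, p, hp⟩ := (AlgebraicGeometry.sigmaOpenCover g).exists_eq (e.inv ((Pi.π (fun _ : A => V) a).left.left w))
      refine ⟨i, p, ?_⟩
      rw [← he i, Scheme.Hom.comp_apply, show Sigma.ι g i p = _ from hp, ← Scheme.Hom.comp_apply, e.inv_hom_id]
      rfl
    choose x hx using hc
    exact ⟨x, ⟨w, (hmemO x w).2 hx⟩, rfl⟩
  case disj =>
    rw [Set.disjoint_left]
    rintro _ ⟨p, rfl⟩ ⟨q, hq⟩
    obtain ⟨a, ha⟩ := Function.ne_iff.1 hxy
    have hwx := (hmemO x ((O x).ι p)).1 p.2 a
    have hwy : (Pi.π (fun _ : A => V) a).left.left ((O x).ι p) ∈ Set.range (incl (y a)).left.left := by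
      have h' := (hmemO y ((O y).ι q)).1 q.2 a
      rwa [show (O y).ι q = (O x).ι p from hq] at h'
    obtain ⟨b, hb⟩ := hwx
    obtain ⟨c, hc⟩ := hwy
    have key : Sigma.ι g (x a) b = Sigma.ι g (y a) c := e.hom.injective (by
      rw [← Scheme.Hom.comp_apply, ← Scheme.Hom.comp_apply, he, he, hb, hc])
    exact ha (congrArg Sigma.fst ((sigmaι_eq_iff g (x a) (y a) b c).1 key))
  let OU : (A → ι) → Over U := fun x => Over.mk (jx x ≫ W.hom)
  let jU : ∀ x, OU x ⟶ W := fun x => Over.homMk (jx x) rfl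
  have hm : ∀ x, ∃ (l : OU x ⟶ Pr x) (k : Pr x ⟶ OU x), l ≫ m x = jU x ∧ k ≫ jU x = m x ∧ l ≫ k = 𝟙 _ ∧ k ≫ l = 𝟙 _ := fun x => by
    have hl : ∀ a, ∃ la : OU x ⟶ Uf (x a), la ≫ incl (x a) = jU x ≫ Pi.π (fun _ : A => V) a := fun a => by
      have hr : Set.range ((O x).ι ≫ (Pi.π (fun _ : A => V) a).left.left) ⊆ Set.range (incl (x a)).left.left := by
        rintro _ ⟨p, rfl⟩
        exact (hmemO x ((O x).ι p)).1 p.2 a
      let l0 : Ox x ⟶ (Uf (x a)).left := MorphismProperty.Over.homMk
        (IsOpenImmersion.lift (incl (x a)).left.left ((O x).ι ≫ (Pi.π (fun _ : A => V) a).left.left) hr) (by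
          rw [← MorphismProperty.Over.w (incl (x a)).left, IsOpenImmersion.lift_fac_assoc, Category.assoc,
            MorphismProperty.Over.w]
          rfl)
      have hl0 : l0 ≫ (incl (x a)).left = jx x ≫ (Pi.π (fun _ : A => V) a).left :=
        MorphismProperty.Over.Hom.ext (IsOpenImmersion.lift_fac _ _ _)
      refine ⟨Over.homMk l0 ?_, Over.OverMorphism.ext hl0⟩
      show l0 ≫ (Uf (x a)).hom = jx x ≫ W.hom
      rw [← Over.w (incl (x a)), reassoc_of% hl0, Over.w]
    choose la hla using hl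
    have hlm : Limits.Pi.lift la ≫ m x = jU x := Limits.Pi.hom_ext _ _ fun a => by
      rw [Category.assoc, Pi.map_π, Limits.Pi.lift_π_assoc, hla]
    have hr : Set.range (m x).left.left ⊆ Set.range (O x).ι := by
      rintro _ ⟨p, rfl⟩
      rw [Scheme.Opens.range_ι, SetLike.mem_coe, hmemO]
      intro a
      refine ⟨(Pi.π (fun a => Uf (x a)) a).left.left p, ?_⟩
      exact congrArg (fun k : Pr x ⟶ V => k.left.left p) (Pi.map_π (fun a => incl (x a)) a).symm
    let k0 : (Pr x).left ⟶ Ox x := MorphismProperty.Over.homMk (IsOpenImmersion.lift (O x).ι (m x).left.left hr) (by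
      show _ ≫ (O x).ι ≫ W.left.hom = _
      rw [IsOpenImmersion.lift_fac_assoc, MorphismProperty.Over.w])
    have hk0 : k0 ≫ jx x = (m x).left := MorphismProperty.Over.Hom.ext (IsOpenImmersion.lift_fac _ _ _)
    let k : Pr x ⟶ OU x := Over.homMk k0 (by show k0 ≫ jx x ≫ W.hom = _; rw [reassoc_of% hk0, Over.w])
    have hk : k ≫ jU x = m x := Over.OverMorphism.ext hk0
    haveI : Mono (jU x).left.left := inferInstanceAs (Mono (O x).ι)
    haveI := mono_over (jU x)
    refine ⟨Limits.Pi.lift la, k, hlm, hk, ?_, ?_⟩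
    · rw [← cancel_mono (jU x), Category.assoc, hk, hlm, Category.id_comp]
    · refine Limits.Pi.hom_ext _ _ fun a => ?_
      haveI := hmono (x a)
      rw [← cancel_mono (incl (x a)), Category.assoc, Category.assoc, Limits.Pi.lift_π_assoc, Category.id_comp, hla,
        reassoc_of% hk, Pi.map_π]
  choose l k hlm hkj hlk hkl using hm
  -- sections
  have hPm : ∀ (x : A → ι) (s : P.obj (op W)), P.map (m x).op s = P.map (k x).op (F.obj.map (jx x).op s) := fun x s => by
    rw [← hkj x, op_comp, Functor.map_comp, ConcreteCategory.comp_apply]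
    rfl
  have hkbij : ∀ x, Function.Bijective (P.map (k x).op) := fun x =>
    (ConcreteCategory.isIso_iff_bijective _).1 (haveI : IsIso (k x) := ⟨l x, hkl x, hlk x⟩; inferInstance)
  let y₀ : A → PUnit.{u + 2} := fun _ => PUnit.unit
  have hτ : ∀ (x : A → ι) (s : (∏ᶜ fun y : A → PUnit.{u + 2} => P.obj (op W) : AddCommGrpCat.{u + 1})),
      Pi.π (fun x : A → ι => P.obj (op (Pr x))) x (τ.app n s) = P.map (m x).op (Pi.π (fun _ : A → PUnit.{u + 2} => P.obj (op W)) y₀ s) := by
    intro x s
    rw [← ConcreteCategory.comp_apply]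
    exact (ConcreteCategory.congr_hom (Limits.Pi.lift_π _ x) s).trans (ConcreteCategory.comp_apply _ _ _)
  refine (ConcreteCategory.isIso_iff_bijective _).2 ⟨fun s s' h => ?_, fun t => ?_⟩
  · refine Concrete.limit_ext _ s s' fun ⟨y⟩ => ?_
    obtain rfl : y = y₀ := funext fun a => rfl
    refine hbij.1 (funext fun x => (hkbij x).1 ?_)
    rw [← hPm, ← hPm]
    exact (hτ x s).symm.trans ((congrArg _ h).trans (hτ x s'))
  · choose t' ht' using fun x => (hkbij x).2 (Pi.π (fun x : A → ι => P.obj (op (Pr x))) x t)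
    obtain ⟨s₀, hs₀⟩ := hbij.2 t'
    refine ⟨(Limits.Pi.lift fun _ : A → PUnit.{u + 2} => 𝟙 (P.obj (op W))) s₀, Concrete.limit_ext _ _ _ fun ⟨x⟩ => ?_⟩
    refine (hτ x _).trans ?_
    rw [← ConcreteCategory.comp_apply (Limits.Pi.lift _), Limits.Pi.lift_π]
    refine (hPm x s₀).trans ?_
    rw [hs₀, ht']
    rfl

end EtCechDisjLib
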